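import Groth.Prelude.Def_FlatCA
import Mathlib

/-! # Limits of finite flat modules over towers of rings with nil kernels -/

set_option autoImplicit false
universe u

open Matrix

namespace Groth.Agent.LimProj6

theorem isNilpotent_of_entries {R : Type u} [CommRing R] {r : ℕ} (S : Matrix (Fin r) (Fin r) R)
    (h : ∀ i j, IsNilpotent (S i j)) : IsNilpotent S := by
  let J : Ideal R := Ideal.span (Set.range fun p : Fin r × Fin r => S p.1 p.2)
  have hJ : IsNilpotent J := by
    refine (Ideal.FG.isNilpotent_iff_le_nilradical (Submodule.fg_span (Set.finite_range _))).mpr ?_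
    rw [Ideal.span_le]
    rintro _ ⟨p, rfl⟩
    exact h p.1 p.2
  obtain ⟨k, hk⟩ := hJ
  have hpow : ∀ m i j, (S ^ m) i j ∈ J ^ m := by
    intro m
    induction m with
    | zero => intro i j; rw [pow_zero (M := Ideal R), Ideal.one_eq_top]; trivial
    | succ m ih =>
      intro i j
      rw [pow_succ S, Matrix.mul_apply, pow_succ J]
      exact sum_mem fun l _ => Ideal.mul_mem_mul (ih i l) (Ideal.subset_span ⟨(l, j), rfl⟩)
  exact ⟨k, Matrix.ext fun i j => by simpa [hk] using hpow k i j⟩

theorem eq_zero_of_mulVec_eq_self {R : Type u} [CommRing R] {r : ℕ} {S : Matrix (Fin r) (Fin r) R}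
    (hS : IsNilpotent S) {v : Fin r → R} (h : S *ᵥ v = v) : v = 0 := by
  obtain ⟨k, hk⟩ := hS
  have : ∀ m, (S ^ m) *ᵥ v = v := fun m => by
    induction m with
    | zero => rw [pow_zero, one_mulVec]
    | succ m ih => rw [pow_succ, ← mulVec_mulVec, h, ih]
  rw [← this k, hk, zero_mulVec]

section

variable {A : Type u} [CommRing A] {An : ℕ → Type u} [∀ n, CommRing (An n)] {t : ∀ n, An (n + 1) →+* An n}
  {π : ∀ n, A →+* An n}

theorem exists_seq (ht : ∀ n, Function.Surjective (t n)) :
    ∀ (n : ℕ) (a : An n), ∃ x : ∀ m, An m, (∀ m, t m (x (m + 1)) = x m) ∧ x n = a := by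
  intro n
  induction n with
  | zero =>
    intro a
    exact ⟨fun m => Nat.rec (motive := An) a (fun k b => (ht k b).choose) m, fun m => (ht m _).choose_spec, rfl⟩
  | succ n ih =>
    intro a
    obtain ⟨x, hx, hxn⟩ := ih (t n a)
    let y : ∀ m, An m := fun m => Nat.rec (motive := An) 0
      (fun k b => if h : k = n then h ▸ (a - x (n + 1)) else if k < n then 0 else (ht k b).choose) m
    have hy0 : ∀ m, m ≤ n → y m = 0 := by
      intro m hm
      cases m with
      | zero => rfl
      | succ k =>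
        show dite (k = n) _ _ = 0
        rw [dif_neg (by omega), if_pos (by omega)]
    have hyn : y (n + 1) = a - x (n + 1) := by
      show dite (n = n) _ _ = _
      rw [dif_pos rfl]
    have hy : ∀ m, t m (y (m + 1)) = y m := by
      intro m
      rcases lt_trichotomy m n with h | rfl | h
      · rw [hy0 m h.le, hy0 (m + 1) (by omega), map_zero]
      · rw [hyn, map_sub, hx, hxn, sub_self, hy0 m le_rfl]
      · show t m (dite (m = n) _ _) = _
        rw [dif_neg (by omega), if_neg (by omega)]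
        exact (ht m (y m)).choose_spec
    exact ⟨fun m => x m + y m, fun m => by rw [map_add, hx, hy], by show x (n + 1) + y (n + 1) = a; rw [hyn, add_sub_cancel]⟩

theorem surjective_proj (ht : ∀ n, Function.Surjective (t n)) (hA : FlatCA.IsRingLimit A An t π) (n : ℕ) :
    Function.Surjective (π n) := fun a => by
  obtain ⟨x, hx, hxn⟩ := exists_seq ht n a
  obtain ⟨b, hb⟩ := hA.2.2 x hx
  exact ⟨b, (hb n).trans hxn⟩

end

theorem main (A : Type u) [CommRing A] (An : ℕ → Type u)
    [∀ n, CommRing (An n)] (t : ∀ n, An (n + 1) →+* An n) (π : ∀ n, A →+* An n)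
    (ht : ∀ n, Function.Surjective (t n)) (hnil : ∀ n (x : An (n + 1)), t n x = 0 → IsNilpotent x)
    (hA : FlatCA.IsRingLimit A An t π)
    (M : ℕ → Type u) [∀ n, AddCommGroup (M n)] [∀ n, Module (An n) (M n)] (u : ∀ n, M (n + 1) →ₛₗ[t n] M n)
    [Module.Projective (An 0) (M 0)] (hfin : ∀ n, Module.Finite (An n) (M n)) (hflat : ∀ n, Module.Flat (An n) (M n))
    (hu : ∀ n, Function.Surjective (u n) ∧ LinearMap.ker (u n) = RingHom.ker (t n) • (⊤ : Submodule (An (n + 1)) (M (n + 1)))) :
    ∃ (P : Type u) (_ : AddCommGroup P) (_ : Module A P) (p : ∀ n, P →ₛₗ[π n] M n),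
      Module.Finite A P ∧ Module.Projective A P ∧ (∀ n (x : P), u n (p (n + 1) x) = p n x) ∧
      (∀ n, Function.Surjective (p n) ∧ LinearMap.ker (p n) = RingHom.ker (π n) • (⊤ : Submodule A P)) ∧
      (∀ x : (∀ n, M n), (∀ n, u n (x (n + 1)) = x n) → ∃! q : P, ∀ n, p n q = x n) := by
  classical
  haveI := hfin 0
  obtain ⟨r, f₀, g₀, hf₀, -, hfg⟩ := Module.Finite.exists_comp_eq_id_of_projective (An 0) (M 0)
  let e₀ : Matrix (Fin r) (Fin r) (An 0) := LinearMap.toMatrix' (g₀.comp f₀)
  have he₀v : ∀ v, e₀ *ᵥ v = g₀ (f₀ v) := fun v => LinearMap.toMatrix'_mulVec _ v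
  have hfg' : ∀ m, f₀ (g₀ m) = m := fun m => LinearMap.congr_fun hfg m
  have he₀ : IsIdempotentElem e₀ := by
    show e₀ * e₀ = e₀
    exact Matrix.ext_of_mulVec_single fun i => by rw [← mulVec_mulVec, he₀v, he₀v, hfg']
  have step : ∀ n (e : {e : Matrix (Fin r) (Fin r) (An n) // IsIdempotentElem e}),
      ∃ e' : {e : Matrix (Fin r) (Fin r) (An (n + 1)) // IsIdempotentElem e}, e'.1.map (t n) = e.1 := by
    intro n e
    obtain ⟨e', h1, h2⟩ := exists_isIdempotentElem_eq_of_ker_isNilpotent ((t n).mapMatrix (m := Fin r))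
      (fun S hS => isNilpotent_of_entries S fun i j => hnil n _ (by
        have h0 : (t n).mapMatrix S = (0 : Matrix (Fin r) (Fin r) (An n)) := hS
        exact congrFun (congrFun h0 i) j))
      e.1 ⟨Matrix.of fun i j => (ht n (e.1 i j)).choose, Matrix.ext fun i j => (ht n (e.1 i j)).choose_spec⟩ e.2
    exact ⟨⟨e', h1⟩, h2⟩
  choose next hnext using step
  let es : ∀ n, {e : Matrix (Fin r) (Fin r) (An n) // IsIdempotentElem e} := fun n =>
    Nat.rec (motive := fun n => {e : Matrix (Fin r) (Fin r) (An n) // IsIdempotentElem e}) ⟨e₀, he₀⟩ next n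
  let e : ∀ n, Matrix (Fin r) (Fin r) (An n) := fun n => (es n).1
  have hte : ∀ n, (e (n + 1)).map (t n) = e n := fun n => hnext n (es n)
  have hee : ∀ n v, e n *ᵥ (e n *ᵥ v) = e n *ᵥ v := fun n v => by rw [mulVec_mulVec, (es n).2.eq]
  -- generators
  let g : ∀ n, Fin r → M n := fun n => Nat.rec (motive := fun n => Fin r → M n) (fun i => f₀ (Pi.single i 1))
    (fun k b i => ((hu k).1 (b i)).choose) n
  have hg : ∀ n i, u n (g (n + 1) i) = g n i := fun n i => ((hu n).1 (g n i)).choose_spec
  let q : ∀ n, (Fin r → An n) →ₗ[An n] M n := fun n =>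
    (Fintype.linearCombination (An n) (g n)).comp (Matrix.mulVecLin (e n))
  have hq : ∀ n v, q n v = ∑ i, (e n *ᵥ v) i • g n i := fun n v => rfl
  have hqe : ∀ n v, q n (e n *ᵥ v) = q n v := fun n v => by rw [hq, hq, hee]
  have htv : ∀ n (v : Fin r → An (n + 1)), (t n ∘ (e (n + 1) *ᵥ v)) = e n *ᵥ (t n ∘ v) := fun n v => funext fun i => by
    show t n ((e (n + 1) *ᵥ v) i) = _
    rw [RingHom.map_mulVec, hte]
  have huq : ∀ n v, u n (q (n + 1) v) = q n (t n ∘ v) := fun n v => by
    rw [hq, hq, map_sum]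
    refine Finset.sum_congr rfl fun i _ => ?_
    rw [map_smulₛₗ, hg, ← htv]
    rfl
  have hq0 : ∀ v, q 0 v = f₀ (e₀ *ᵥ v) := fun v => by
    rw [hq]
    conv_rhs => rw [← Finset.univ_sum_single (e₀ *ᵥ v), map_sum]
    refine Finset.sum_congr rfl fun i _ => ?_
    show (e₀ *ᵥ v) i • f₀ (Pi.single i 1) = _
    rw [← map_smul, ← Pi.single_smul, smul_eq_mul, mul_one]
  have hsurj : ∀ n, Function.Surjective (q n) := by
    intro n
    induction n with
    | zero => exact fun m => ⟨g₀ m, by rw [hq0, he₀v, hfg', hfg']⟩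
    | succ n ih =>
      haveI := hfin (n + 1)
      rw [← LinearMap.range_eq_top, eq_top_iff]
      refine Submodule.le_of_le_smul_of_le_jacobson_bot Module.Finite.fg_top (I := RingHom.ker (t n))
        (fun x hx => Ideal.radical_le_jacobson (hnil n x hx)) fun m _ => ?_
      obtain ⟨v, hv⟩ := ih (u n m)
      let v' : Fin r → An (n + 1) := fun i => (ht n (v i)).choose
      have hv' : t n ∘ v' = v := funext fun i => (ht n (v i)).choose_spec
      have : m - q (n + 1) v' ∈ LinearMap.ker (u n) := by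
        rw [LinearMap.mem_ker, map_sub, huq, hv', hv, sub_self]
      rw [(hu n).2] at this
      exact Submodule.mem_sup.mpr ⟨q (n + 1) v', ⟨v', rfl⟩, _, this, add_sub_cancel _ _⟩
  have hinj : ∀ n v, e n *ᵥ v = v → q n v = 0 → v = 0 := by
    intro n
    induction n with
    | zero =>
      intro v hev hv
      have hev0 : e₀ *ᵥ v = v := hev
      have h0 : f₀ v = 0 := by rw [← hev0, ← hq0, hv]
      rw [← hev]
      show e₀ *ᵥ v = 0
      rw [he₀v, h0, map_zero]
    | succ n ih =>
      have hk : ∀ v, e (n + 1) *ᵥ v = v → q (n + 1) v = 0 → ∀ i, IsNilpotent (v i) := fun v hev hv i => by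
        refine hnil n _ (congrFun (ih (t n ∘ v) ?_ ?_) i)
        · rw [← htv, hev]
        · rw [← huq, hv, map_zero]
      intro v hev hv
      haveI := hflat (n + 1)
      have hrel : ∑ i, v i • q (n + 1) (Pi.single i 1) = 0 := by
        rw [← hv]
        conv_rhs => rw [← Finset.univ_sum_single v, map_sum]
        refine Finset.sum_congr rfl fun i _ => ?_
        rw [← map_smul, ← Pi.single_smul, smul_eq_mul, mul_one]
      obtain ⟨k, a, y, hy, hva⟩ := Module.Flat.isTrivialRelation_of_sum_smul_eq_zero hrel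
      choose w hw using fun j => hsurj (n + 1) (y j)
      let z : Fin r → Fin r → An (n + 1) := fun i =>
        e (n + 1) *ᵥ (Pi.single i 1 - ∑ j, a i j • w j)
      have hz : ∀ i l, IsNilpotent (z i l) := fun i => hk _ (hee _ _) (by
        rw [hqe, map_sub, map_sum, show q (n + 1) (Pi.single i 1) = _ from hy i]
        simp only [map_smul, hw, sub_self])
      refine eq_zero_of_mulVec_eq_self (isNilpotent_of_entries (Matrix.of fun l i => z i l) fun l i => hz i l) ?_
      have hsum : ∑ i, v i • z i = v := by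
        simp only [z, ← mulVec_smul, ← Matrix.mulVec_sum, smul_sub, Finset.sum_sub_distrib]
        have h1 : ∑ i, v i • (Pi.single i (1 : An (n + 1)) : Fin r → An (n + 1)) = v := by
          conv_rhs => rw [← Finset.univ_sum_single v]
          exact Finset.sum_congr rfl fun i _ => by rw [← Pi.single_smul, smul_eq_mul, mul_one]
        have h2 : ∑ i, v i • ∑ j, a i j • w j = 0 := by
          simp only [Finset.smul_sum, smul_smul]
          rw [Finset.sum_comm]
          simp only [← Finset.sum_smul, hva, zero_smul, Finset.sum_const_zero]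
        rw [h1, h2, sub_zero, hev]
      funext l
      conv_rhs => rw [← hsum]
      simp [Matrix.mulVec, dotProduct, Finset.sum_apply, mul_comm]
  -- the limit
  have hπ := surjective_proj ht hA
  have hlim : ∀ x : ∀ n, Fin r → An n, (∀ n, t n ∘ x (n + 1) = x n) → ∃ v : Fin r → A, ∀ n, π n ∘ v = x n := by
    intro x hx
    choose v hv using fun i => hA.2.2 (fun n => x n i) fun n => congrFun (hx n) i
    exact ⟨v, fun n => funext fun i => hv i n⟩
  choose E hE using fun i j => hA.2.2 (fun n => e n i j) fun n => congrFun (congrFun (hte n) i) j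
  let EM : Matrix (Fin r) (Fin r) A := Matrix.of E
  have hEM : ∀ n v, π n ∘ (EM *ᵥ v) = e n *ᵥ (π n ∘ v) := fun n v => funext fun i => by
    show π n ((EM *ᵥ v) i) = _
    rw [RingHom.map_mulVec]
    congr 2
    exact Matrix.ext fun i j => hE i j n
  have hext : ∀ v w : Fin r → A, (∀ n, π n ∘ v = π n ∘ w) → v = w := fun v w h => funext fun i =>
    hA.2.1 _ _ fun n => congrFun (h n) i
  have hEE : ∀ v, EM *ᵥ (EM *ᵥ v) = EM *ᵥ v := fun v => hext _ _ fun n => by
    rw [hEM, hEM, hee]
  let P : Submodule A (Fin r → A) := LinearMap.range (Matrix.mulVecLin EM)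
  have hP : ∀ v : P, EM *ᵥ (v : Fin r → A) = v := by
    rintro ⟨_, w, rfl⟩
    exact hEE w
  let pr : (Fin r → A) →ₗ[A] P := (Matrix.mulVecLin EM).rangeRestrict
  have hpr : ∀ v : P, pr v = v := fun v => Subtype.ext (hP v)
  let p : ∀ n, P →ₛₗ[π n] M n := fun n =>
    { toFun := fun v => q n (π n ∘ (v : Fin r → A))
      map_add' := fun v w => by
        rw [← map_add]
        exact congrArg _ (funext fun i => map_add (π n) _ _)
      map_smul' := fun a v => by
        rw [← map_smul]
        exact congrArg _ (funext fun i => map_mul (π n) _ _) }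
  have hpfix : ∀ n (v : P), e n *ᵥ (π n ∘ (v : Fin r → A)) = π n ∘ (v : Fin r → A) := fun n v => by
    rw [← hEM, hP]
  refine ⟨P, inferInstance, inferInstance, p, Module.Finite.of_surjective pr fun v => ⟨v, hpr v⟩,
    Module.Projective.of_split P.subtype pr (LinearMap.ext hpr), fun n v => ?_, fun n => ⟨fun m => ?_, ?_⟩, ?_⟩
  · show u n (q (n + 1) (π (n + 1) ∘ (v : Fin r → A))) = q n (π n ∘ (v : Fin r → A))
    rw [huq]
    congr 1
    funext i
    exact RingHom.congr_fun (hA.1 n) _
  · obtain ⟨w, hw⟩ := hsurj n m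
    refine ⟨pr fun i => (hπ n (w i)).choose, ?_⟩
    show q n (π n ∘ (EM *ᵥ fun i => (hπ n (w i)).choose)) = m
    rw [hEM, hqe, show (π n ∘ fun i => (hπ n (w i)).choose) = w from funext fun i => (hπ n (w i)).choose_spec, hw]
  · refine le_antisymm (fun v hv => ?_) (Submodule.smul_le.mpr fun a ha x _ => ?_)
    · have h0 : π n ∘ (v : Fin r → A) = 0 := hinj n _ (hpfix n v) hv
      have hdec : v = ∑ i, (v : Fin r → A) i • pr (Pi.single i 1) := by
        conv_lhs => rw [← hpr v, ← Finset.univ_sum_single (v : Fin r → A), map_sum]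
        exact Finset.sum_congr rfl fun i _ => by rw [← map_smul, ← Pi.single_smul, smul_eq_mul, mul_one]
      rw [hdec]
      exact sum_mem fun i _ => Submodule.smul_mem_smul (congrFun h0 i) Submodule.mem_top
    · rw [LinearMap.mem_ker, map_smulₛₗ, RingHom.mem_ker.mp ha, zero_smul]
  · intro x hx
    choose w hw using fun n => hsurj n (x n)
    let v : ∀ n, Fin r → An n := fun n => e n *ᵥ w n
    have hv : ∀ n, t n ∘ v (n + 1) = v n := fun n => sub_eq_zero.mp (hinj n _
      (by rw [mulVec_sub, show t n ∘ v (n + 1) = e n *ᵥ (t n ∘ w (n + 1)) from htv n _, hee, hee])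
      (by rw [map_sub, ← huq, hqe, hqe, hw, hw, hx, sub_self]))
    obtain ⟨V, hV⟩ := hlim v hv
    refine ⟨pr V, fun n => ?_, fun v' hv' => ?_⟩
    · show q n (π n ∘ (EM *ᵥ V)) = x n
      rw [hEM, hqe, hV, hqe, hw]
    · refine Subtype.ext (hext _ _ fun n => ?_)
      show π n ∘ (v' : Fin r → A) = π n ∘ (EM *ᵥ V)
      refine sub_eq_zero.mp (hinj n _ ?_ ?_)
      · rw [mulVec_sub, hpfix, hEM, hee]
      · rw [map_sub, hEM, hqe, hV, hqe, hw]
        exact sub_eq_zero.mpr (hv' n)

end Groth.Agent.LimProj6
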